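import Groth.Agent.DerivedCoh.KInj.Lifting
import Groth.Agent.SiteCohomology.ShriekExact
import Mathlib.CategoryTheory.Abelian.GrothendieckAxioms.FunctorCategory
import Mathlib.CategoryTheory.Abelian.GrothendieckCategory.Basic
import Mathlib.CategoryTheory.Adjunction.Evaluation
import Mathlib.CategoryTheory.Generator.Presheaf
import Mathlib.Algebra.Homology.HomologySequenceLemmas

/-!
# K-injective diagrams: evaluation, transition maps and kernels
-/

set_option autoImplicit false
set_option backward.defeqAttrib.useBackward true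
set_option backward.isDefEq.respectTransparency false
set_option maxHeartbeats 1000000
set_option synthInstance.maxHeartbeats 400000

universe v u

open CategoryTheory CategoryTheory.Limits Opposite HomologicalComplex

namespace Groth.Misc7.FilKInj

open Groth.DerivedCoh.KInjRes

variable {A : Type u} [Category.{v} A] [Abelian A]

section Kernel

variable {X Y : CochainComplex A ℤ} (t : X ⟶ Y) (s : ∀ n, Y.X n ⟶ X.X n) (hs : ∀ n, s n ≫ t.f n = 𝟙 _)

include hs in
/-- The kernel of a degreewise split epimorphism of K-injective complexes with injective terms. -/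
theorem ext_kernel (hX : Ext X) (hY : Y.IsKInjective) : Ext (kernel t) := by
  intro K M i hi f
  obtain ⟨g, hg⟩ := hX i hi (f ≫ kernel.ι t)
  have hgt : i ≫ g ≫ t = 0 := by
    rw [← Category.assoc, hg, Category.assoc, kernel.condition, comp_zero]
  have := hi.1
  have := hi.2
  let h : cokernel i ⟶ Y := cokernel.desc i (g ≫ t) hgt
  have hS : (ShortComplex.mk i (cokernel.π i) (cokernel.condition i)).ShortExact :=
    { exact := ShortComplex.exact_cokernel _ }
  obtain ⟨H⟩ := hY.nonempty_homotopy_zero h (hS.acyclic_X₃ this)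
  let h' : cokernel i ⟶ X := Homotopy.nullHomotopicMap fun p q => H.hom p q ≫ s q
  have e : h' ≫ t = h := by
    rw [Homotopy.nullHomotopicMap_comp]
    apply HomologicalComplex.hom_ext
    intro n
    have e' : (fun p q => (H.hom p q ≫ s q) ≫ t.f q) = H.hom := by
      funext p q
      rw [Category.assoc, hs, Category.comp_id]
    rw [e']
    exact ((H.comm n).trans (add_zero _)).symm
  refine ⟨kernel.lift t (g - cokernel.π i ≫ h') ?_, ?_⟩
  · rw [Preadditive.sub_comp, Category.assoc, e, cokernel.π_desc, sub_self]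
  · rw [← cancel_mono (kernel.ι t), Category.assoc, kernel.lift_ι, Preadditive.comp_sub,
      cokernel.condition_assoc, zero_comp, sub_zero, hg]

include hs in
lemma epi_of_section : Epi t := by
  have : ∀ n, Epi (t.f n) := fun n => epi_of_epi_fac (hs n)
  exact HomologicalComplex.epi_of_epi_f t this

omit t s hs in
theorem ext_of_iso {X Y : CochainComplex A ℤ} (e : X ≅ Y) (hX : Ext X) : Ext Y := by
  intro K M i hi f
  obtain ⟨g, hg⟩ := hX i hi (f ≫ e.inv)
  exact ⟨g ≫ e.hom, by rw [← Category.assoc, hg, Category.assoc, e.inv_hom_id, Category.comp_id]⟩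

end Kernel

section Exact

/-- The kernels of `t₁`, `t₁ ≫ t₂` and `t₂`. -/
theorem shortExact_kernels {X Y Z : A} (t₁ : X ⟶ Y) (t₂ : Y ⟶ Z) [Epi t₁] :
    (ShortComplex.mk
      (kernel.lift (t₁ ≫ t₂) (kernel.ι t₁) (by rw [kernel.condition_assoc, zero_comp]))
      (kernel.lift t₂ (kernel.ι (t₁ ≫ t₂) ≫ t₁) (by rw [Category.assoc, kernel.condition]))
      (by rw [← cancel_mono (kernel.ι t₂)]; simp)).ShortExact := by
  refine ShortComplex.ShortExact.mk' ?_ ?_ ?_
  · rw [ShortComplex.exact_iff_exact_up_to_refinements]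
    intro T x hx
    dsimp at x hx
    have h := hx =≫ kernel.ι t₂
    rw [zero_comp, Category.assoc, kernel.lift_ι, ← Category.assoc] at h
    refine ⟨T, 𝟙 T, inferInstance, kernel.lift t₁ (x ≫ kernel.ι (t₁ ≫ t₂)) h, ?_⟩
    rw [← cancel_mono (kernel.ι (t₁ ≫ t₂))]
    simp
  · exact mono_of_mono_fac (kernel.lift_ι _ _ _)
  · rw [epi_iff_surjective_up_to_refinements]
    intro T y
    obtain ⟨T', π, hπ, x, hx⟩ := surjective_up_to_refinements_of_epi t₁ (y ≫ kernel.ι t₂)
    refine ⟨T', π, hπ, kernel.lift (t₁ ≫ t₂) x ?_, ?_⟩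
    · rw [← Category.assoc, ← hx]
      simp
    · rw [← cancel_mono (kernel.ι t₂)]
      simpa using hx

theorem quasiIso_τ₁ {S₁ S₂ : ShortComplex (CochainComplex A ℤ)} (φ : S₁ ⟶ S₂) (hS₁ : S₁.ShortExact)
    (hS₂ : S₂.ShortExact) (h₂ : QuasiIso φ.τ₂) (h₃ : QuasiIso φ.τ₃) : QuasiIso φ.τ₁ := by
  rw [quasiIso_iff]
  intro j
  rw [quasiIsoAt_iff_isIso_homologyMap]
  obtain ⟨i, hij⟩ : ∃ i, (ComplexShape.up ℤ).Rel i j := ⟨j - 1, by simp⟩
  exact Abelian.isIso_of_epi_of_isIso_of_isIso_of_mono
    (φ := ComposableArrows.δ₀Functor.map (HomologySequence.mapComposableArrows₅ φ hS₁ hS₂ i j hij))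
    (HomologySequence.composableArrows₅_exact hS₁ i j hij).δ₀
    (HomologySequence.composableArrows₅_exact hS₂ i j hij).δ₀
    (inferInstanceAs (Epi (homologyMap φ.τ₂ i))) (inferInstanceAs (IsIso (homologyMap φ.τ₃ i)))
    (inferInstanceAs (IsIso (homologyMap φ.τ₂ j))) (inferInstanceAs (Mono (homologyMap φ.τ₃ j)))

end Exact

section Diagram

variable {C : Type v} [SmallCategory C]

instance isGrothendieckAbelian_functor [IsGrothendieckAbelian.{v} A] :
    IsGrothendieckAbelian.{v} (Cᵒᵖ ⥤ A) where
  ab5OfSize := { ofShape := fun K _ _ => inferInstance }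

variable [IsGrothendieckAbelian.{v} A] (c : Cᵒᵖ)

instance preservesFiniteLimits_evaluationLeftAdjoint :
    PreservesFiniteLimits (evaluationLeftAdjoint A c) :=
  Groth.SiteCohomology.preservesFiniteLimits_of_adjunction_of_mono (evaluationAdjunctionRight A c)
    fun {X Y} f hf => by
      have : ∀ t, Mono (((evaluationLeftAdjoint A c).map f).app t) := fun t => by
        have e : ((evaluationLeftAdjoint A c).map f).app t = Limits.Sigma.map (fun _ : c ⟶ t => f) := by
          apply Sigma.hom_ext
          intro g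
          simp
        rw [e]
        infer_instance
      exact NatTrans.mono_of_mono_app _

/-- Evaluation on complexes of diagrams. -/
noncomputable abbrev evC : CochainComplex (Cᵒᵖ ⥤ A) ℤ ⥤ CochainComplex A ℤ :=
  ((evaluation Cᵒᵖ A).obj c).mapHomologicalComplex (ComplexShape.up ℤ)

theorem injective_evC (X : CochainComplex (Cᵒᵖ ⥤ A) ℤ) (hX : ∀ n, Injective (X.X n)) (n : ℤ) :
    Injective (((evC c).obj X).X n) :=
  haveI := hX n
  Groth.SiteCohomology.injective_map_of_adjunction (evaluationAdjunctionRight A c) (X.X n)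

theorem isKInjective_evC (X : CochainComplex (Cᵒᵖ ⥤ A) ℤ) (hX : X.IsKInjective) :
    ((evC c).obj X).IsKInjective :=
  Groth.SiteCohomology.isKInjective_map_of_adjunction (evaluationAdjunctionRight A c) X hX

theorem ext_evC (X : CochainComplex (Cᵒᵖ ⥤ A) ℤ) (hX : X.IsKInjective) (hX' : ∀ n, Injective (X.X n)) :
    Ext ((evC c).obj X) := by
  intro K M i hi f
  haveI := isKInjective_evC c X hX
  have := hi.1
  have hS : (ShortComplex.mk i (cokernel.π i) (cokernel.condition i)).ShortExact :=
    { exact := ShortComplex.exact_cokernel _ }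
  exact ext_of_isKInjective (injective_evC c X hX') hS (hS.acyclic_X₃ hi.2) f

variable {c} {d : Cᵒᵖ} (φ : c ⟶ d)

/-- Transition maps. -/
noncomputable abbrev trC (X : CochainComplex (Cᵒᵖ ⥤ A) ℤ) : (evC c).obj X ⟶ (evC d).obj X where
  f n := (X.X n).map φ
  comm' i j _ := ((X.d i j).naturality φ)

variable [∀ a b : Cᵒᵖ, Subsingleton (a ⟶ b)]

/-- Transition maps of injective diagrams are split epimorphisms. -/
theorem exists_section (F : Cᵒᵖ ⥤ A) [Injective F] : ∃ s : F.obj d ⟶ F.obj c, s ≫ F.map φ = 𝟙 _ := by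
  let α : (evaluationLeftAdjoint A d).obj (F.obj d) ⟶ (evaluationLeftAdjoint A c).obj (F.obj d) :=
    { app := fun t => Sigma.desc fun h => Sigma.ι (fun _ : c ⟶ t => F.obj d) (φ ≫ h)
      naturality := fun t t' g => by
        apply Sigma.hom_ext
        intro h
        simp }
  have : ∀ t, Mono (α.app t) := fun t => by
    by_cases hne : Nonempty (d ⟶ t)
    · obtain ⟨h⟩ := hne
      refine @SplitMono.mono _ _ _ _ _ ⟨Sigma.desc fun _ => Sigma.ι (fun _ : d ⟶ t => F.obj d) h, ?_⟩
      apply Sigma.hom_ext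
      intro h'
      simp [α, Subsingleton.elim h' h]
    · have : IsEmpty (d ⟶ t) := not_nonempty_iff.1 hne
      constructor
      intro T x y _
      have hz : IsZero (((evaluationLeftAdjoint A d).obj (F.obj d)).obj t) := by
        rw [IsZero.iff_id_eq_zero]
        apply Sigma.hom_ext
        intro h
        exact isEmptyElim h
      exact hz.eq_of_tgt x y
  have : Mono α := NatTrans.mono_of_mono_app _
  let ι₀ : (evaluationLeftAdjoint A d).obj (F.obj d) ⟶ F :=
    { app := fun t => Sigma.desc fun h => F.map h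
      naturality := fun t t' g => by
        apply Sigma.hom_ext
        intro h
        simp }
  let w := Injective.factorThru ι₀ α
  have hw : α.app d ≫ w.app d = ι₀.app d := NatTrans.congr_app (Injective.comp_factorThru ι₀ α) d
  refine ⟨Sigma.ι (fun _ : c ⟶ c => F.obj d) (𝟙 c) ≫ w.app c, ?_⟩
  have h1 : Sigma.ι (fun _ : d ⟶ d => F.obj d) (𝟙 d) ≫ ι₀.app d = 𝟙 _ := by simp [ι₀]
  rw [Category.assoc, ← w.naturality φ, ← h1, ← hw]
  simp [α, ← Category.assoc]

theorem epi_trC (X : CochainComplex (Cᵒᵖ ⥤ A) ℤ) (hX' : ∀ n, Injective (X.X n)) : Epi (trC φ X) := by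
  choose s hs using fun n => haveI := hX' n; exists_section φ (X.X n)
  exact epi_of_section (trC φ X) s hs

/-- Kernels of transition maps have the lifting property. -/
theorem ext_kernel_trC (X : CochainComplex (Cᵒᵖ ⥤ A) ℤ) (hX : X.IsKInjective)
    (hX' : ∀ n, Injective (X.X n)) : Ext (kernel (trC φ X)) := by
  choose s hs using fun n => haveI := hX' n; exists_section φ (X.X n)
  exact ext_kernel (trC φ X) s hs (ext_evC c X hX hX') (isKInjective_evC d X hX)

end Diagram

end Groth.Misc7.FilKInj
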