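import Groth.Agent.Misc7.FilKInj.Diagram
import Groth.Agent.DerivedCoh.KInj.Resolution
import Groth.Prelude.Def_SpSeq
import Mathlib.Order.WithBot
import Mathlib.CategoryTheory.Category.ULift

/-!
# Filtered K-injective resolutions
-/

set_option autoImplicit false
set_option backward.defeqAttrib.useBackward true
set_option backward.isDefEq.respectTransparency false
set_option maxHeartbeats 1000000
set_option synthInstance.maxHeartbeats 400000

universe v u

open CategoryTheory CategoryTheory.Limits Opposite HomologicalComplex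

namespace Groth.Misc7.FilKInj

open Groth.DerivedCoh.KInjRes

variable {A : Type u} [Category.{v} A] [Abelian A]

/-- The index category of the quotients of a filtration. -/
abbrev Ti : Type v := ULift.{v} (WithTop ℤ)

/-- The index of the whole object. -/
abbrev top : (Ti.{v})ᵒᵖ := op ⟨⊤⟩

/-- The index of the `p`-th quotient. -/
abbrev idx (p : ℤ) : (Ti.{v})ᵒᵖ := op ⟨(p : WithTop ℤ)⟩

/-- The projection of the whole object. -/
abbrev toIdx (p : ℤ) : top.{v} ⟶ idx.{v} p := (homOfLE (show (⟨(p : WithTop ℤ)⟩ : Ti.{v}) ≤ ⟨⊤⟩ from le_top (α := WithTop ℤ))).op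

/-- The transition between quotients. -/
abbrev idxMap {p q : ℤ} (h : p ≤ q) : idx.{v} q ⟶ idx.{v} p :=
  (homOfLE (show (⟨(p : WithTop ℤ)⟩ : Ti.{v}) ≤ ⟨(q : WithTop ℤ)⟩ from WithTop.coe_le_coe.2 h)).op

variable (K : SpSeq.FilCx A)

/-- The filtration extended by `0` at infinity. -/
noncomputable def fil' : WithTop ℤ → Subobject K.obj
  | ⊤ => ⊥
  | (p : ℤ) => K.fil p

lemma fil'_anti : Antitone (fil' K) := by
  intro a b h
  match a, b, h with
  | _, ⊤, _ => exact bot_le
  | ⊤, (q : ℤ), h => exact absurd h (WithTop.not_top_le_coe q)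
  | (p : ℤ), (q : ℤ), h => exact K.anti (WithTop.coe_le_coe.1 h)

/-- The quotients of a filtration as a diagram. -/
noncomputable def quotD : (Ti.{v})ᵒᵖ ⥤ CochainComplex A ℤ where
  obj a := cokernel (fil' K a.unop.down).arrow
  map {a b} f := cokernel.desc _ (cokernel.π (fil' K b.unop.down).arrow) (by
    rw [← Subobject.ofLE_arrow (fil'_anti K (show b.unop.down ≤ a.unop.down from (leOfHom f.unop :))),
      Category.assoc, cokernel.condition, comp_zero])
  map_id a := by
    apply coequalizer.hom_ext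
    simp
  map_comp f g := by
    apply coequalizer.hom_ext
    simp

/-- A diagram of complexes as a complex of diagrams. -/
noncomputable def flip' {C : Type v} [SmallCategory C] (D : Cᵒᵖ ⥤ CochainComplex A ℤ) :
    CochainComplex (Cᵒᵖ ⥤ A) ℤ where
  X n := D ⋙ HomologicalComplex.eval A _ n
  d i j := { app := fun c => (D.obj c).d i j, naturality := fun c c' f => (D.map f).comm i j }
  shape i j h := by ext c; exact (D.obj c).shape i j h
  d_comp_d' i j k _ _ := by ext c; exact (D.obj c).d_comp_d i j k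

variable [IsGrothendieckAbelian.{v} A]

lemma quasiIso_evC {C : Type v} [SmallCategory C] {X Y : CochainComplex (Cᵒᵖ ⥤ A) ℤ} (f : X ⟶ Y)
    [QuasiIso f] (c : Cᵒᵖ) : QuasiIso ((evC c).map f) := inferInstance

/-- Filtered K-injective embeddings. -/
theorem exists_filtered_embedding :
    ∃ (J : SpSeq.FilCx A) (j : K ⟶ J),
      (∀ n p : ℤ, Injective (J.obj.X n) ∧ Injective ((J.XFil n).step p) ∧ Injective ((J.XFil n).quot p) ∧
        ∀ (p' : ℤ) (h : p ≤ p'), Injective (cokernel ((J.XFil n).stepLE h))) ∧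
      (CochainComplex.IsKInjective J.obj ∧ ∀ p : ℤ, CochainComplex.IsKInjective (J.step p) ∧
        CochainComplex.IsKInjective (J.quot p) ∧
        ∀ (p' : ℤ) (h : p ≤ p'), CochainComplex.IsKInjective (cokernel (J.stepLE h))) ∧
      QuasiIso j.hom ∧
      (∀ p : ℤ, ∃ jp : K.step p ⟶ J.step p, jp ≫ (J.fil p).arrow = (K.fil p).arrow ≫ j.hom ∧ QuasiIso jp ∧
        (∀ (p' : ℤ) (h : p ≤ p'), ∃ (jp' : K.step p' ⟶ J.step p') (jg : cokernel (K.stepLE h) ⟶ cokernel (J.stepLE h)),
          jp' ≫ (J.fil p').arrow = (K.fil p').arrow ≫ j.hom ∧ jp' ≫ J.stepLE h = K.stepLE h ≫ jp ∧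
          cokernel.π (K.stepLE h) ≫ jg = jp ≫ cokernel.π (J.stepLE h) ∧ QuasiIso jg)) ∧
      (∀ p : ℤ, ∃ jq : K.quot p ⟶ J.quot p,
        cokernel.π (K.fil p).arrow ≫ jq = j.hom ≫ cokernel.π (J.fil p).arrow ∧ QuasiIso jq) := by
  obtain ⟨X, η, _, hη, hX, hX'⟩ := exists_resolution (flip' (quotD K))
  let J₀ := (evC (A := A) top).obj X
  let t : ∀ p : ℤ, J₀ ⟶ (evC (idx p)).obj X := fun p => trC (toIdx p) X
  let J : SpSeq.FilCx A :=
    { obj := J₀
      fil := fun p => kernelSubobject (t p)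
      anti := fun p q h => by
        have e : t q ≫ trC (idxMap h) X = t p := by
          ext n
          exact ((X.X n).map_comp _ _).symm
        refine Subobject.le_of_comm ((factorThruKernelSubobject (t p) (kernelSubobject (t q)).arrow (by
          rw [← e, kernelSubobject_arrow_comp_assoc, zero_comp]))) (by simp) }
  let π₀ : K.obj ⟶ (quotD K).obj top := cokernel.π (fil' K ⊤).arrow
  have hπ₀ : IsIso π₀ := by
    have h0 : (fil' K ⊤).arrow = 0 := Subobject.bot_arrow
    refine ⟨cokernel.desc _ (𝟙 _) (by rw [h0, zero_comp]), cokernel.π_desc _ _ _, ?_⟩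
    apply coequalizer.hom_ext
    simp [π₀]
    exact (Category.comp_id _).symm
  let j₀ : K.obj ⟶ J₀ := π₀ ≫ (evC top).map η
  have hj₀ : QuasiIso j₀ := by
    have : QuasiIso π₀ := inferInstance
    exact @quasiIso_comp _ _ _ _ _ _ _ _ π₀ ((evC top).map η) _ _ _ this (quasiIso_evC η top)
  let ηp : ∀ p : ℤ, K.quot p ⟶ (evC (idx p)).obj X := fun p => (evC (idx p)).map η
  have hπ : ∀ p : ℤ, j₀ ≫ t p = cokernel.π (K.fil p).arrow ≫ ηp p := by
    intro p
    have e : (evC top).map η ≫ t p = (quotD K).map (toIdx p) ≫ ηp p := by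
      ext n
      exact ((η.f n).naturality (toIdx p)).symm
    show (π₀ ≫ _) ≫ _ = _
    rw [Category.assoc, e, ← Category.assoc]
    congr 1
    exact cokernel.π_desc _ _ _
  have hzero : ∀ p : ℤ, ((K.fil p).arrow ≫ j₀) ≫ t p = 0 := fun p => by
    rw [Category.assoc, hπ, cokernel.condition_assoc, zero_comp]
  let jp : ∀ p : ℤ, K.step p ⟶ J.step p := fun p =>
    factorThruKernelSubobject (t p) ((K.fil p).arrow ≫ j₀) (hzero p)
  have hjp : ∀ p, jp p ≫ (J.fil p).arrow = (K.fil p).arrow ≫ j₀ := fun p =>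
    factorThruKernelSubobject_comp_arrow _ _ _
  let j : K ⟶ J := ⟨j₀, fun p => by
    refine Subobject.le_of_comm ((Subobject.isPullback j₀ (J.fil p)).lift (jp p) (K.fil p).arrow (hjp p))
      ((Subobject.isPullback j₀ (J.fil p)).lift_snd _ _ _)⟩
  have hepi : ∀ p, Epi (t p) := fun p => epi_trC (toIdx p) X hX'
  let SK : ℤ → ShortComplex (CochainComplex A ℤ) := fun p =>
    ShortComplex.mk (K.fil p).arrow (cokernel.π _) (cokernel.condition _)
  have hSK : ∀ p, (SK p).ShortExact := fun p => { exact := ShortComplex.exact_cokernel _ }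
  let SJ : ℤ → ShortComplex (CochainComplex A ℤ) := fun p =>
    ShortComplex.mk (J.fil p).arrow (t p) (kernelSubobject_arrow_comp _)
  have hSJ : ∀ p, (SJ p).ShortExact := fun p =>
    { exact := ShortComplex.exact_of_f_is_kernel _ (IsLimit.ofIsoLimit (kernelIsKernel (t p))
        (Fork.ext (kernelSubobjectIso (t p)).symm (by simp [SJ, J])))
      epi_g := hepi p }
  have hqjp : ∀ p, QuasiIso (jp p) := fun p =>
    quasiIso_τ₁ (ShortComplex.homMk (S₁ := SK p) (S₂ := SJ p) (jp p) j₀ (ηp p) (hjp p) (hπ p))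
      (hSK p) (hSJ p) hj₀ (quasiIso_evC η (idx p))
  have hExtTop : Ext J₀ := ext_evC top X hX hX'
  have hExt : ∀ p, Ext (J.step p) := fun p => ext_of_iso (kernelSubobjectIso (t p)).symm
    (ext_kernel_trC (toIdx p) X hX hX')
  have hcok : ∀ (p p' : ℤ) (h : p ≤ p'), Ext (cokernel (J.stepLE h)) := by
    intro p p' h
    have e : t p' ≫ trC (idxMap h) X = t p := by
      ext n
      exact ((X.X n).map_comp _ _).symm
    haveI := hepi p'
    have hS := shortExact_kernels (t p') (trC (idxMap h) X)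
    haveI := hS.epi_g
    let i₂ : J.step p ≅ kernel (t p' ≫ trC (idxMap h) X) := kernelSubobjectIso (t p) ≪≫ kernelIsoOfEq e.symm
    refine ext_of_iso (?_ : kernel (trC (idxMap h) X) ≅ cokernel (J.stepLE h))
      (ext_kernel_trC (idxMap h) X hX hX')
    refine (hS.exact.gIsCokernel.coconePointUniqueUpToIso (cokernelIsCokernel _)) ≪≫
      (cokernel.mapIso _ _ (kernelSubobjectIso (t p')) i₂ ?_).symm
    rw [← cancel_mono (kernel.ι (t p' ≫ trC (idxMap h) X))]
    simp [i₂, SpSeq.FilObj.stepLE, J]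
  have hquot : ∀ p, Ext (J.quot p) := fun p => ext_of_iso
    ((hSJ p).exact.gIsCokernel.coconePointUniqueUpToIso (colimit.isColimit _))
    (haveI := hepi p; ext_evC (idx p) X hX hX')
  refine ⟨J, j, fun n p => ⟨injective_of_ext hExtTop n, ?_, ?_, fun p' h => ?_⟩,
    ⟨isKInjective_of_ext hExtTop, fun p => ⟨isKInjective_of_ext (hExt p),
      isKInjective_of_ext (hquot p), fun p' h => isKInjective_of_ext (hcok p p' h)⟩⟩, hj₀,
    fun p => ⟨jp p, hjp p, hqjp p, fun p' h => ?_⟩, fun p => ?_⟩
  · exact Injective.of_iso (Subobject.underlyingIso ((J.fil p).arrow.f n)).symm (injective_of_ext (hExt p) n)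
  · exact Injective.of_iso ((PreservesCokernel.iso (HomologicalComplex.eval A _ n) (J.fil p).arrow) ≪≫
      (cokernel.mapIso _ _ (Subobject.underlyingIso ((J.fil p).arrow.f n)) (Iso.refl _)
        (by simp [SpSeq.FilCx.XFil, SpSeq.FilCx.filX])).symm) (injective_of_ext (hquot p) n)
  · refine Injective.of_iso ((PreservesCokernel.iso (HomologicalComplex.eval A _ n) (J.stepLE h)) ≪≫
      (cokernel.mapIso _ _ (Subobject.underlyingIso ((J.fil p').arrow.f n))
        (Subobject.underlyingIso ((J.fil p).arrow.f n)) ?_).symm) (injective_of_ext (hcok p p' h) n)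
    rw [← cancel_mono ((J.fil p).arrow.f n)]
    simp [SpSeq.FilObj.stepLE, SpSeq.FilCx.XFil, SpSeq.FilCx.filX, ← HomologicalComplex.comp_f]
  · have w : K.stepLE h ≫ jp p = jp p' ≫ J.stepLE h := by
      rw [← cancel_mono (J.fil p).arrow, Category.assoc, hjp, Category.assoc, Subobject.ofLE_arrow, hjp,
        ← Category.assoc, Subobject.ofLE_arrow]
    refine ⟨jp p', cokernel.map _ _ (jp p') (jp p) w, hjp p', w.symm, cokernel.π_desc _ _ _, ?_⟩
    exact HomologySequence.quasiIso_τ₃
      (ShortComplex.homMk (S₁ := ShortComplex.mk (K.stepLE h) (cokernel.π _) (cokernel.condition _))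
        (S₂ := ShortComplex.mk (J.stepLE h) (cokernel.π _) (cokernel.condition _))
        (jp p') (jp p) (cokernel.map _ _ (jp p') (jp p) w) w.symm (cokernel.π_desc _ _ _).symm)
      { exact := ShortComplex.exact_cokernel _ } { exact := ShortComplex.exact_cokernel _ }
      (hqjp p') (hqjp p)
  · refine ⟨cokernel.map _ _ (jp p) j₀ (hjp p).symm, cokernel.π_desc _ _ _, ?_⟩
    exact HomologySequence.quasiIso_τ₃
      (ShortComplex.homMk (S₁ := SK p)
        (S₂ := ShortComplex.mk (J.fil p).arrow (cokernel.π _) (cokernel.condition _))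
        (jp p) j₀ (cokernel.map _ _ (jp p) j₀ (hjp p).symm) (hjp p) (cokernel.π_desc _ _ _).symm)
      (hSK p) { exact := ShortComplex.exact_cokernel _ } (hqjp p) hj₀

end Groth.Misc7.FilKInj
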