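import Groth.Agent.Misc7.FilKInj.Diagram
import Groth.Agent.DerivedCoh.KInj.Products
import Groth.Prelude.Def_SpSeq
import Mathlib.Algebra.Homology.GrothendieckAbelian
import Mathlib.Algebra.Homology.HomotopyCategory.MappingCone
import Mathlib.CategoryTheory.Functor.OfSequence
import Mathlib.CategoryTheory.Abelian.GrothendieckAxioms.Colim

/-!
# Filtered complexes representing systems in the derived category
-/

set_option autoImplicit false
set_option backward.defeqAttrib.useBackward true
set_option backward.isDefEq.respectTransparency false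
set_option maxHeartbeats 1000000
set_option synthInstance.maxHeartbeats 400000

universe w v u

open CategoryTheory CategoryTheory.Limits HomologicalComplex CochainComplex CochainComplex.HomComplex

namespace Groth.Misc7.FilKInj

section Colim

variable {C : Type u} [Category.{v} C] [Abelian C] [IsGrothendieckAbelian.{v} C]

instance hasColimitsOfShape_nat : HasColimitsOfShape ℕ C :=
  haveI := hasColimitsOfSizeShrink.{0, 0, v, v} C
  inferInstance

instance hasExactColimitsOfShape_nat : HasExactColimitsOfShape ℕ C :=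
  HasExactColimitsOfShape.of_domain_equivalence C (ULift.orderIso.{v} (α := ℕ)).equivalence

/-- The inclusions into the colimit of a sequence of monomorphisms are monomorphisms. -/
theorem mono_colimit_ι (F : ℕ ⥤ C) (hF : ∀ {i j : ℕ} (φ : i ⟶ j), Mono (F.map φ)) (n : ℕ) :
    Mono (colimit.ι F n) := by
  let G : ℕ ⥤ C :=
    { obj := fun k => F.obj (min k n)
      map := fun {i j} φ => F.map (homOfLE (min_le_min (leOfHom φ) le_rfl))
      map_id := fun i => F.map_id _
      map_comp := fun f g => by rw [← F.map_comp]; rfl }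
  let α : G ⟶ F :=
    { app := fun k => F.map (homOfLE (min_le_left k n))
      naturality := fun i j φ => by
        show F.map _ ≫ F.map _ = F.map _ ≫ F.map _
        rw [← F.map_comp, ← F.map_comp]
        rfl }
  let c : Cocone G := { pt := F.obj n
                        ι := { app := fun k => F.map (homOfLE (min_le_right k n))
                               naturality := fun i j φ => by
                                 show F.map _ ≫ F.map _ = F.map _ ≫ 𝟙 _
                                 rw [Category.comp_id, ← F.map_comp]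
                                 rfl } }
  have hn : n ≤ min n n := by simp
  let hc : IsColimit c :=
    { desc := fun s => F.map (homOfLE hn) ≫ s.ι.app n
      fac := fun s k => by
        rw [← Category.assoc]
        show (F.map _ ≫ F.map _) ≫ _ = _
        rw [← F.map_comp]
        by_cases h : k ≤ n
        · have := s.w (homOfLE h)
          exact this
        · have e := s.w (homOfLE (not_le.1 h).le)
          rw [← e, ← Category.assoc]
          show (F.map _ ≫ F.map _) ≫ _ = _
          rw [← F.map_comp]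
          have hk : min k n ≤ min k n := le_rfl
          exact (congrArg (fun φ : min k n ⟶ min k n => F.map φ ≫ s.ι.app k) (Subsingleton.elim _ (𝟙 _))).trans
            (by simp [G])
      uniq := fun s m hm => by
        rw [← hm n, ← Category.assoc]
        show _ = (F.map _ ≫ F.map _) ≫ m
        rw [← F.map_comp]
        exact ((congrArg (fun φ : n ⟶ n => F.map φ ≫ m) (Subsingleton.elim _ (𝟙 _))).trans (by simp)).symm }
  refine MorphismProperty.IsStableUnderColimitsOfShape.condition (W := MorphismProperty.monomorphisms C)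
    (J := ℕ) G F c (colimit.cocone F) hc (colimit.isColimit F) α (fun j => hF _) (colimit.ι F n) fun j => ?_
  show F.map _ ≫ colimit.ι F n = F.map _ ≫ colimit.ι F j
  rw [colimit.w, colimit.w]

end Colim

variable {A : Type u} [Category.{v} A] [Abelian A] [IsGrothendieckAbelian.{v} A] [HasDerivedCategory.{w} A]

/-- The cone of the identity. -/
noncomputable abbrev cyl (I : CochainComplex A ℤ) : CochainComplex A ℤ := mappingCone (𝟙 I)

lemma mono_inr (I : CochainComplex A ℤ) : Mono (mappingCone.inr (𝟙 I)) := by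
  have : ∀ k, Mono ((mappingCone.inr (𝟙 I)).f k) := fun k =>
    mono_of_mono_fac (mappingCone.inr_f_snd_v (𝟙 I) k)
  exact HomologicalComplex.mono_of_mono_f _ this

lemma isZero_Q_cyl (I : CochainComplex A ℤ) : IsZero (DerivedCategory.Q.obj (cyl I)) := by
  rw [IsZero.iff_id_eq_zero, ← DerivedCategory.Q.map_id]
  exact ((DerivedCategory.Q_map_eq_of_homotopy _ (mappingCone.homotopyToZeroOfId I))).trans (Functor.map_zero _ _ _)

/-- A null homotopy of a coproduct. -/
noncomputable def homotopySigma {κ : Type} (F : κ → CochainComplex A ℤ) [HasCoproduct F]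
    [∀ n, PreservesColimit (Discrete.functor F) (HomologicalComplex.eval A (ComplexShape.up ℤ) n)]
    (H : ∀ k, Homotopy (𝟙 (F k)) 0) : Homotopy (𝟙 (∐ F)) 0 :=
  let hc := fun n => isColimitCofanMkObjOfIsColimit (HomologicalComplex.eval A (ComplexShape.up ℤ) n) F
    (Sigma.ι F) (coproductIsCoproduct F)
  { hom := fun p q => Cofan.IsColimit.desc (hc p) fun k => (H k).hom p q ≫ (Sigma.ι F k).f q
    zero := fun p q hpq => Cofan.IsColimit.hom_ext (hc p) _ _ fun k => by
      rw [Cofan.IsColimit.fac, (H k).zero p q hpq, zero_comp, comp_zero]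
    comm := fun p => Cofan.IsColimit.hom_ext (hc p) _ _ fun k => by
      have e := (H k).comm p
      have e' := congrArg (· ≫ (Sigma.ι F k).f p) e
      rw [dNext_eq _ (show (ComplexShape.up ℤ).Rel p (p + 1) by simp),
        prevD_eq _ (show (ComplexShape.up ℤ).Rel (p - 1) p by simp)] at e' ⊢
      have d1 : ∀ q r, (Sigma.ι F k).f q ≫ (∐ F).d q r = (F k).d q r ≫ (Sigma.ι F k).f r :=
        fun q r => (Sigma.ι F k).comm q r
      have fac : ∀ q r, (Sigma.ι F k).f q ≫ Cofan.IsColimit.desc (hc q) (fun k => (H k).hom q r ≫ (Sigma.ι F k).f r)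
          = (H k).hom q r ≫ (Sigma.ι F k).f r := fun q r => Cofan.IsColimit.fac (hc q) _ k
      simp only [HomologicalComplex.id_f, HomologicalComplex.zero_f, add_zero, Category.id_comp,
        Preadditive.add_comp, Category.assoc] at e'
      show (Sigma.ι F k).f p ≫ _ = (Sigma.ι F k).f p ≫ _
      simp only [HomologicalComplex.id_f, HomologicalComplex.zero_f, add_zero, Category.comp_id,
        Preadditive.comp_add, reassoc_of% (d1 p (p + 1)), fac, ← Category.assoc, Category.assoc, d1]
      rw [reassoc_of% (fac p (p - 1)), d1]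
      exact e' }

/-- A filtered complex representing a system in the derived category. -/
theorem exists_filtered_representing
    (E : DerivedCategory A) (Es : ℤ → DerivedCategory A) (t : ∀ i : ℤ, Es (i + 1) ⟶ Es i)
    (a : ∀ i : ℤ, Es i ⟶ E) (hat : ∀ i : ℤ, t i ≫ a i = a (i + 1)) :
    ∃ (K : SpSeq.FilCx A) (e : DerivedCategory.Q.obj K.obj ≅ E)
      (ei : ∀ i : ℤ, DerivedCategory.Q.obj (K.step i) ≅ Es i),
      (∀ i : ℤ, DerivedCategory.Q.map (K.fil i).arrow ≫ e.hom = (ei i).hom ≫ a i) ∧
      (∀ i : ℤ, DerivedCategory.Q.map (K.stepLE (le_of_lt (Int.lt_succ_self i))) ≫ (ei i).hom =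
        (ei (i + 1)).hom ≫ t i) := by
  haveI : HasColimitsOfSize.{0, 0} (CochainComplex A ℤ) := hasColimitsOfSizeShrink.{0, 0, v, v} _
  obtain ⟨J, hJ, ⟨eJ⟩⟩ := Groth.DerivedCoh.KInjRes.exists_kInjective_iso E
  choose I hI eI using fun i => Groth.DerivedCoh.KInjRes.exists_kInjective_iso (Es i)
  replace eI := fun i => (eI i).some
  choose t' ht' using fun i => haveI := hI i; Groth.DerivedCoh.KInjRes.Q_map_surjective (I (i + 1)) (I i)
    ((eI (i + 1)).hom ≫ t i ≫ (eI i).inv)
  choose a' ha' using fun i => Groth.DerivedCoh.KInjRes.Q_map_surjective (I i) J ((eI i).hom ≫ a i ≫ eJ.inv)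
  have hh : ∀ i, Nonempty (Homotopy (a' (i + 1) - t' i ≫ a' i) 0) := fun i => by
    obtain ⟨h⟩ := (Groth.DerivedCoh.KInjRes.Q_map_eq_iff (I (i + 1)) J (a' (i + 1)) (t' i ≫ a' i)).1 (by
      rw [Functor.map_comp, ha', ha', ht', ← hat]
      simp)
    exact ⟨Homotopy.equivSubZero h⟩
  let h := fun i => (hh i).some
  let φ : ∀ k : ℤ, ∃ g : cyl (I k) ⟶ J, ∀ i, ∀ e : i + 1 = k,
      mappingCone.inr (𝟙 (I k)) ≫ g = eqToHom (by rw [e]) ≫ (a' (i + 1) - t' i ≫ a' i) := fun k => by
    obtain ⟨i, rfl⟩ : ∃ i, k = i + 1 := ⟨k - 1, by simp⟩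
    refine ⟨mappingCone.desc (𝟙 _) (Cochain.ofHomotopy (h i)) (a' (i + 1) - t' i ≫ a' i)
      (by rw [δ_ofHomotopy]; simp), fun i' e => ?_⟩
    obtain rfl : i' = i := by omega
    simp
  choose g hg using φ
  -- the steps
  let R : ℤ → CochainComplex A ℤ := fun i => ∐ fun k : {k : ℤ // i < k} => cyl (I k.1)
  let S : ℤ → CochainComplex A ℤ := fun i => I i ⊞ R i
  let ρ : ∀ i, R (i + 1) ⟶ R i := fun i =>
    Sigma.desc fun k => Sigma.ι (fun k : {k : ℤ // i < k} => cyl (I k.1)) ⟨k.1, by have := k.2; omega⟩
  let σ : ∀ i, I (i + 1) ⟶ R i := fun i => mappingCone.inr (𝟙 (I (i + 1))) ≫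
    Sigma.ι (fun k : {k : ℤ // i < k} => cyl (I k.1)) ⟨i + 1, by omega⟩
  let τ : ∀ i, S (i + 1) ⟶ S i := fun i => biprod.desc (biprod.lift (t' i) (σ i)) (ρ i ≫ biprod.inr)
  let α : ∀ i, S i ⟶ J := fun i => biprod.desc (a' i) (Sigma.desc fun k => g k.1)
  have hα : ∀ i, τ i ≫ α i = α (i + 1) := fun i => by
    apply biprod.hom_ext'
    · simp only [τ, α, biprod.inl_desc_assoc, biprod.lift_desc, biprod.inl_desc, σ, Category.assoc,
        colimit.ι_desc, Cofan.mk_ι_app]
      rw [hg (i + 1) i rfl]
      simp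
    · simp only [τ, α, ρ, biprod.inr_desc_assoc, Category.assoc, biprod.inr_desc]
      apply Sigma.hom_ext
      intro k
      simp
  have hmτ : ∀ i, Mono (τ i) := fun i => by
    let p : R i ⟶ R (i + 1) := Sigma.desc fun k =>
      if hk : i + 1 < k.1 then Sigma.ι (fun k : {k : ℤ // i + 1 < k} => cyl (I k.1)) ⟨k.1, hk⟩ else 0
    let q : R i ⟶ cyl (I (i + 1)) := Sigma.desc fun k =>
      if hk : k.1 = i + 1 then eqToHom (by rw [hk]) else 0
    have h1 : σ i ≫ p = 0 := by simp [σ, p]
    have h2 : ρ i ≫ p = 𝟙 _ := by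
      apply Sigma.hom_ext
      intro k
      simp [ρ, p, k.2]
      exact (Category.comp_id _).symm
    have h3 : σ i ≫ q = mappingCone.inr (𝟙 (I (i + 1))) := by simp [σ, q]
    have h4 : ρ i ≫ q = 0 := by
      apply Sigma.hom_ext
      intro k
      have : k.1 ≠ i + 1 := k.2.ne'
      simp [ρ, q, this]
    rw [Preadditive.mono_iff_cancel_zero]
    intro T x hx
    have e : x ≫ τ i ≫ biprod.snd = 0 := by rw [← Category.assoc, hx, zero_comp]
    have eτ : τ i ≫ biprod.snd = biprod.desc (σ i) (ρ i) := by
      apply biprod.hom_ext' <;> simp [τ]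
    rw [eτ] at e
    have ep := e =≫ p
    have eq' := e =≫ q
    rw [zero_comp, Category.assoc] at ep eq'
    have dp : biprod.desc (σ i) (ρ i) ≫ p = biprod.snd := by
      apply biprod.hom_ext' <;> simp [h1, h2]
    have dq : biprod.desc (σ i) (ρ i) ≫ q = biprod.fst ≫ mappingCone.inr (𝟙 (I (i + 1))) := by
      apply biprod.hom_ext' <;> simp [h3, h4]
    rw [dp] at ep
    rw [dq, ← Category.assoc] at eq'
    haveI := mono_inr (I (i + 1))
    apply biprod.hom_ext
    · rw [zero_comp]; exact zero_of_comp_mono _ eq'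
    · rw [zero_comp]; exact ep
  have hαe : ∀ {a b : ℤ} (e : a = b), eqToHom (congrArg S e) ≫ α b = α a := by
    rintro a b rfl
    simp
  -- the colimit
  let X : ℕ → CochainComplex A ℤ := fun n => S (-(n : ℤ))
  let f : ∀ n, X n ⟶ X (n + 1) := fun n =>
    eqToHom (show X n = S (-((n + 1 : ℕ) : ℤ) + 1) by simp only [X]; congr 1; push_cast; ring) ≫ τ _
  let F : ℕ ⥤ CochainComplex A ℤ := Functor.ofSequence f
  have hF : ∀ {i j : ℕ} (φ : i ⟶ j), Mono (F.map φ) := by
    intro i j φ
    obtain ⟨d, rfl⟩ := Nat.exists_eq_add_of_le (leOfHom φ)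
    induction d with
    | zero =>
      rw [show φ = 𝟙 _ from Subsingleton.elim _ _, F.map_id]
      infer_instance
    | succ d ih =>
      rw [show φ = homOfLE (Nat.le_add_right i d) ≫ homOfLE (Nat.le_add_right (i + d) 1) from Subsingleton.elim _ _,
        F.map_comp, Functor.ofSequence_map_homOfLE_succ]
      haveI := ih (homOfLE (Nat.le_add_right i d))
      haveI : Mono (f (i + d)) := by
        haveI := hmτ (-((i + d + 1 : ℕ) : ℤ))
        exact mono_comp _ _
      exact mono_comp _ _
  let co : Cocone F := { pt := J, ι := NatTrans.ofSequence (fun n => α _) (fun n => by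
    show F.map _ ≫ α _ = α _ ≫ 𝟙 _
    rw [Functor.ofSequence_map_homOfLE_succ, Category.comp_id, Category.assoc, hα]
    exact hαe (by push_cast; ring)) }
  let M := colimit F
  -- compatible maps to the colimit
  let pos : ∀ d : ℕ, S (d : ℤ) ⟶ M := fun d =>
    Nat.rec (motive := fun d : ℕ => S (d : ℤ) ⟶ M) (colimit.ι F 0) (fun d m => τ (d : ℤ) ≫ m) d
  let μ : ∀ i, S i ⟶ M := fun i =>
    match i with
    | Int.ofNat d => pos d
    | Int.negSucc d => colimit.ι F (d + 1)
  have hw : ∀ n : ℕ, f n ≫ colimit.ι F (n + 1) = colimit.ι F n := fun n => by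
    rw [← colimit.w F (homOfLE (Nat.le_add_right n 1)), Functor.ofSequence_map_homOfLE_succ]
  have hτμ : ∀ i, τ i ≫ μ i = μ (i + 1) := by
    rintro (d | d)
    · rfl
    · rcases d with - | d
      · exact (congrArg (· ≫ colimit.ι F 1) (Category.id_comp (τ (Int.negSucc 0))).symm).trans (hw 0)
      · exact (congrArg (· ≫ colimit.ι F (d + 1 + 1)) (Category.id_comp (τ (Int.negSucc (d + 1)))).symm).trans (hw (d + 1))
  have hmμ : ∀ i, Mono (μ i) := by
    rintro (d | d)
    · induction d with
      | zero => exact mono_colimit_ι F hF 0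
      | succ d ih =>
        have := hmτ (d : ℤ)
        exact @mono_comp _ _ _ _ _ (τ (d : ℤ)) this _ ih
    · exact mono_colimit_ι F hF (d + 1)
  have hμd : ∀ i, μ i ≫ colimit.desc F co = α i := by
    rintro (d | d)
    · induction d with
      | zero => exact colimit.ι_desc co 0
      | succ d ih =>
        show (τ (d : ℤ) ≫ μ (Int.ofNat d)) ≫ _ = _
        rw [Category.assoc, ih]
        exact hα _
    · exact colimit.ι_desc co (d + 1)
  let inc : ∀ i, S i ⟶ J ⊞ cyl M := fun i => biprod.lift (α i) (μ i ≫ mappingCone.inr (𝟙 M))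
  have hminc : ∀ i, Mono (inc i) := fun i => by
    haveI := mono_inr M
    haveI := hmμ i
    exact mono_of_mono_fac (biprod.lift_snd (α i) (μ i ≫ mappingCone.inr (𝟙 M)))
  have hτinc : ∀ i, τ i ≫ inc i = inc (i + 1) := fun i => by
    apply biprod.hom_ext
    · simp [inc, hα]
    · simp [inc, reassoc_of% (hτμ i)]
  let K : SpSeq.FilCx A :=
    { obj := J ⊞ cyl M
      fil := fun i => haveI := hminc i; Subobject.mk (inc i)
      anti := by
        refine antitone_int_of_succ_le fun i => ?_
        haveI := hminc i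
        haveI := hminc (i + 1)
        exact Subobject.mk_le_mk_of_comm (τ i) (hτinc i) }
  let u : ∀ i, K.step i ≅ S i := fun i => haveI := hminc i; Subobject.underlyingIso (inc i)
  have hu : ∀ i, (u i).hom ≫ inc i = (K.fil i).arrow := fun i => by
    haveI := hminc i
    exact Subobject.underlyingIso_hom_comp_eq_mk (inc i)
  have hstep : ∀ i, K.stepLE (le_of_lt (Int.lt_succ_self i)) ≫ (u i).hom = (u (i + 1)).hom ≫ τ i := fun i => by
    haveI := hminc i
    rw [← cancel_mono (inc i), Category.assoc, hu, Category.assoc, hτinc, hu]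
    exact Subobject.ofLE_arrow _
  haveI hfst : IsIso (DerivedCategory.Q.map (biprod.fst : J ⊞ cyl M ⟶ J)) := by
    refine ⟨DerivedCategory.Q.map biprod.inl, ?_, by rw [← Functor.map_comp, biprod.inl_fst, CategoryTheory.Functor.map_id]⟩
    rw [← Functor.map_comp, ← DerivedCategory.Q.map_id, ← biprod.total, Functor.map_add]
    have : DerivedCategory.Q.map (biprod.snd ≫ biprod.inr : J ⊞ cyl M ⟶ J ⊞ cyl M) = 0 := by
      rw [Functor.map_comp, (isZero_Q_cyl M).eq_of_tgt (DerivedCategory.Q.map biprod.snd) 0, zero_comp]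
    rw [this, add_zero]
  have hR : ∀ i, DerivedCategory.Q.map (biprod.inr : R i ⟶ S i) = 0 := fun i => by
    suffices hz : DerivedCategory.Q.map (𝟙 (R i)) = 0 by
      rw [← Category.id_comp (biprod.inr : R i ⟶ S i), Functor.map_comp, hz, zero_comp]
    exact (DerivedCategory.Q_map_eq_of_homotopy _ (homotopySigma _ fun k : {k : ℤ // i < k} =>
      mappingCone.homotopyToZeroOfId (I k.1))).trans (Functor.map_zero _ _ _)
  haveI hfst' : ∀ i, IsIso (DerivedCategory.Q.map (biprod.fst : S i ⟶ I i)) := fun i => by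
    refine ⟨DerivedCategory.Q.map biprod.inl, ?_, by rw [← Functor.map_comp, biprod.inl_fst, CategoryTheory.Functor.map_id]⟩
    rw [← Functor.map_comp, ← DerivedCategory.Q.map_id, ← biprod.total, Functor.map_add]
    have : DerivedCategory.Q.map (biprod.snd ≫ biprod.inr : S i ⟶ S i) = 0 := by
      rw [Functor.map_comp, hR, comp_zero]
    rw [this, add_zero]
  refine ⟨K, asIso (DerivedCategory.Q.map (biprod.fst : J ⊞ cyl M ⟶ J)) ≪≫ eJ,
    fun i => DerivedCategory.Q.mapIso (u i) ≪≫ asIso (DerivedCategory.Q.map (biprod.fst : S i ⟶ I i)) ≪≫ eI i,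
    fun i => ?_, fun i => ?_⟩
  · have key : DerivedCategory.Q.map (α i) = DerivedCategory.Q.map (biprod.fst : S i ⟶ I i) ≫ DerivedCategory.Q.map (a' i) := by
      have e2 : DerivedCategory.Q.map (biprod.fst : S i ⟶ I i) ≫ DerivedCategory.Q.map biprod.inl = 𝟙 _ := by
        rw [← Functor.map_comp, ← DerivedCategory.Q.map_id, ← biprod.total, Functor.map_add]
        rw [show DerivedCategory.Q.map (biprod.snd ≫ biprod.inr : S i ⟶ S i) = 0 by
          rw [Functor.map_comp, hR, comp_zero], add_zero]
      rw [← Category.id_comp (DerivedCategory.Q.map (α i)), ← e2, Category.assoc, ← Functor.map_comp]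
      simp [α]
    dsimp
    rw [← Category.assoc, ← Category.assoc, ← Functor.map_comp, ← hu, Category.assoc (u i).hom, biprod.lift_fst,
      Functor.map_comp, key, ha']
    simp
  · have key : DerivedCategory.Q.map (τ i) ≫ DerivedCategory.Q.map (biprod.fst : S i ⟶ I i) =
        DerivedCategory.Q.map (biprod.fst : S (i + 1) ⟶ I (i + 1)) ≫ DerivedCategory.Q.map (t' i) := by
      rw [← Functor.map_comp, ← Functor.map_comp]
      congr 1
      apply biprod.hom_ext' <;> simp [τ]
    dsimp
    rw [← Category.assoc, ← Functor.map_comp, hstep, Functor.map_comp, Category.assoc, reassoc_of% key, ht']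
    simp

end Groth.Misc7.FilKInj
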